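import Groth.Agent.Topos.H565.CohCore

/-!
# Pullback-closed classes of quasi-compact objects from generating sets

* `pbClass_of_generating`: a generating set of quasi-compact objects closed under fibre products is a `PBClass`.
* `exists_finite_cover`: finite covers by members of a generating set of an epimorphism onto a quasi-compact object.
* `pbClass_of_subset`: more generally any class `T` of quasi-compact objects, closed under fibre products and
  containing a generating set, is a `PBClass`.
-/

set_option autoImplicit false

universe u

open CategoryTheory CategoryTheory.Limits Opposite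

namespace Groth.Agent.Topos.H565.GenClass

open ToposFin Groth.Agent.Sga4A.FinBase Groth.Agent.Topos.H565.FinSum

variable {C : Type u} [SmallCategory C] {J : GrothendieckTopology C}

/-- Finite covers by members of a generating set refining an epimorphism onto a quasi-compact object. -/
theorem exists_finite_cover {S : Set (Sh J)} (hgen : IsGenerating S) {K : Sh J} (hK : IsQC K) {L : Sh J}
    (g : L ⟶ K) [Epi g] : ∃ (ι : Type) (_ : Finite ι) (X : ι → Sh J)
    (p : ∀ i, X i ⟶ L), (∀ i, X i ∈ S) ∧ LocSurj (fun i => p i ≫ g) := by
  obtain ⟨ι, F, π, hF, hπ⟩ := hgen L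
  have h1 : LocSurj π := (jointEpi_iff_locSurj π).1 hπ
  obtain ⟨s, hs⟩ := (isQC_iff K).1 hK ι F _ (h1.comp_epi g)
  obtain ⟨n, ⟨e⟩⟩ := Finite.exists_equiv_fin s
  refine ⟨Fin n, inferInstance, fun k => F (e.symm k).1, fun k => π (e.symm k).1, fun k => hF _, ?_⟩
  refine hs.of_factor _ fun i => ⟨e i, eqToHom (by simp), ?_⟩
  have aux : ∀ (a b : s) (h : a = b), eqToHom (by rw [h]) ≫ π b.1 ≫ g = π a.1 ≫ g := by
    rintro a b rfl
    simp
  exact aux i (e.symm (e i)) (by simp)

/-- A class of quasi-compact objects closed under fibre products and containing a generating set. -/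
theorem pbClass_of_subset {S T : Set (Sh J)} (hST : S ⊆ T) (hqc : ∀ K ∈ T, IsQC K) (hgen : IsGenerating S)
    (hpb : ClosedUnderPullbacks T) : PBClass T where
  qc := hqc
  pb := hpb
  cov K hK L g hg := by
    obtain ⟨ι, h, X, p, hX, hp⟩ := exists_finite_cover hgen (hqc K hK) g
    exact ⟨ι, h, X, p, fun i => hST (hX i), hp⟩

/-- A generating set of quasi-compact objects closed under fibre products. -/
theorem pbClass_of_generating {S : Set (Sh J)} (hqc : ∀ K ∈ S, IsQC K) (hgen : IsGenerating S)
    (hpb : ClosedUnderPullbacks S) : PBClass S :=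
  pbClass_of_subset (subset_refl S) hqc hgen hpb

end Groth.Agent.Topos.H565.GenClass
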