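import Groth.Agent.CohtopB.ExtResn
import Mathlib.CategoryTheory.Filtered.Final
import Mathlib.CategoryTheory.Limits.Preserves.Shapes.Products

/-!
# Ext groups out of finite sums and filtered colimits

* `Decomp X G`: maps `G k ⟶ X` and `X ⟶ G k` for finitely many `k` whose composites sum up to the identity.
* `Decomp.ext_eq_zero`, `Decomp.extCommutes`: vanishing of `Ext` groups, resp. commutation of `Ext^q` with filtered
  colimits, for `X` follows from the `G k`.
* `Decomp.ofIsColimit`: a finite coproduct has a decomposition.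
-/

set_option autoImplicit false

universe w v u v' u' t

open CategoryTheory CategoryTheory.Limits CategoryTheory.Abelian

namespace Groth.Agent.Topos.H565.ExtDecomp

open Groth.Agent.CohtopB.ExtColim

/-- A decomposition of the identity of `X` through the `G k`. -/
structure Decomp {A : Type u} [Category.{v} A] [Preadditive A] {ι : Type t} [Fintype ι] (X : A) (G : ι → A) where
  i : ∀ k, G k ⟶ X
  p : ∀ k, X ⟶ G k
  total : ∑ k, p k ≫ i k = 𝟙 X

/-- A finite coproduct has a decomposition. -/
noncomputable def Decomp.ofIsColimit {A : Type u} [Category.{v} A] [Preadditive A] {ι : Type t} [Fintype ι]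
    {X : A} {G : ι → A} (i : ∀ k, G k ⟶ X) (h : IsColimit (Cofan.mk X i)) : Decomp X G := by
  classical
  exact
  { i := i
    p := fun k => Cofan.IsColimit.desc h (fun l => if e : l = k then eqToHom (by rw [e]) else 0)
    total := by
      refine Cofan.IsColimit.hom_ext h _ _ fun l => ?_
      rw [Preadditive.comp_sum, Finset.sum_eq_single l]
      · rw [← Category.assoc, Cofan.IsColimit.fac]
        simp [Cofan.inj]
      · intro b _ hb
        rw [← Category.assoc, Cofan.IsColimit.fac, dif_neg (Ne.symm hb), zero_comp]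
      · intro hl
        exact absurd (Finset.mem_univ l) hl }

variable {A : Type u} [Category.{v} A] [Abelian A] [HasExt.{w} A] {ι : Type t} [Fintype ι] {X : A} {G : ι → A}

theorem Decomp.eq_sum (D : Decomp X G) {Y : A} {q : ℕ} (x : Ext X Y q) :
    x = ∑ k, (Ext.mk₀ (D.p k)).comp ((Ext.mk₀ (D.i k)).comp x (zero_add q)) (zero_add q) := by
  have h : (Ext.mk₀ (𝟙 X)).comp x (zero_add q) = x := Ext.mk₀_id_comp x
  rw [← D.total, Ext.mk₀_sum, Ext.sum_comp] at h
  refine h.symm.trans (Finset.sum_congr rfl fun k _ => ?_)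
  rw [← Ext.mk₀_comp_mk₀, Ext.comp_assoc_of_second_deg_zero]

theorem Decomp.ext_eq_zero (D : Decomp X G) {Y : A} {q : ℕ} (h : ∀ k, ∀ x : Ext (G k) Y q, x = 0)
    (x : Ext X Y q) : x = 0 := by
  rw [D.eq_sum x]
  refine Finset.sum_eq_zero fun k _ => ?_
  rw [h k ((Ext.mk₀ (D.i k)).comp x (zero_add q)), Ext.comp_zero]

theorem Decomp.extCommutes (D : Decomp X G) {I : Type u'} [Category.{v'} I] [IsFiltered I] {q : ℕ}
    (h : ∀ k, ExtCommutes I (G k) q) : ExtCommutes I X q := by
  classical
  intro F c hc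
  have h' := fun k => (elemColim_ext_iff c (G k) q).1 (h k F c hc)
  rw [elemColim_ext_iff]
  refine ⟨fun x => ?_, fun i y hy => ?_⟩
  · choose j y hy using fun k => (h' k).1 ((Ext.mk₀ (D.i k)).comp x (zero_add q))
    obtain ⟨S, hS⟩ := IsFiltered.sup_objs_exists (Finset.univ.image j)
    have g : ∀ k, j k ⟶ S := fun k => (hS (Finset.mem_image_of_mem j (Finset.mem_univ k))).some
    refine ⟨S, ∑ k, (Ext.mk₀ (D.p k)).comp ((y k).comp (Ext.mk₀ (F.map (g k))) (add_zero q)) (zero_add q), ?_⟩
    rw [Ext.sum_comp]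
    refine Eq.trans (Finset.sum_congr rfl fun k _ => ?_) (D.eq_sum x).symm
    rw [Ext.comp_assoc_of_third_deg_zero, Ext.comp_assoc_of_third_deg_zero, Ext.mk₀_comp_mk₀, c.w, hy]
  · choose j f hf using fun k => (h' k).2 i ((Ext.mk₀ (D.i k)).comp y (zero_add q)) (by
      rw [Ext.comp_assoc_of_third_deg_zero, hy, Ext.comp_zero])
    obtain ⟨S, hS⟩ := IsFiltered.sup_objs_exists (Finset.univ.image fun k => Under.mk (f k))
    have g : ∀ k, Under.mk (f k) ⟶ S := fun k => (hS (Finset.mem_image_of_mem _ (Finset.mem_univ k))).some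
    refine ⟨S.right, S.hom, ?_⟩
    rw [D.eq_sum (y.comp (Ext.mk₀ (F.map S.hom)) (add_zero q))]
    refine Finset.sum_eq_zero fun k _ => ?_
    have e : (Ext.mk₀ (D.i k)).comp (y.comp (Ext.mk₀ (F.map S.hom)) (add_zero q)) (zero_add q) = 0 := by
      rw [← Ext.comp_assoc_of_third_deg_zero, ← Under.w (g k)]
      dsimp only [Under.mk_hom]
      rw [F.map_comp, ← Ext.mk₀_comp_mk₀, ← Ext.comp_assoc_of_third_deg_zero]
      refine Eq.trans (congrArg (fun z => Ext.comp z (Ext.mk₀ (F.map (g k).right)) (add_zero q)) (hf k)) ?_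
      rw [Ext.zero_comp]
    rw [e, Ext.comp_zero]

end Groth.Agent.Topos.H565.ExtDecomp
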