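import Groth.Agent.Topos.H565.FinSum
import Groth.Agent.Topos.H565.ExtDecomp
import Groth.Agent.CohtopB.CohColim
import Groth.Agent.CohtopB.ExtResn
import Groth.Prelude.Def_ToposFin2

/-!
# Cohomology of coherent objects commutes with filtered colimits

`T : Set (Sh J)` with `PBClass T`: quasi-compact objects, closed under fibre products, with finite covers.

* `map_surj`: surjectivity of `colim Hom(K, F i) ⟶ Hom(K, colim F i)` for `K` with good covers.
* `extCommutes_zero`: `Hom(ℤ[K], -)` commutes with filtered colimits.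
* `nerveResn`: the Cech nerve resolution of `ℤ[K]` for an epimorphism onto `K`.
* `PBClass.extCommutes`: `Ext^q(ℤ[K], -)` commutes with filtered colimits for `K ∈ T` and all `q`.
* `PBClass.preserves_HKFunctor`: the same for `ToposFin.HKFunctor K q`.
-/

set_option autoImplicit false
set_option linter.unusedSectionVars false

universe w v u

open CategoryTheory CategoryTheory.Limits Opposite Simplicial Abelian

namespace Groth.Agent.Topos.H565.CohCore

open ToposFin Groth.Agent.CohtopB.ExtColim Groth.Agent.CohtopB.SheafColim Groth.Agent.CohtopB.SectColim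
open Groth.Agent.CohtopB.CohObj Groth.Agent.CohtopB.NerveHK Groth.Agent.CohtopB.CohColim
open Groth.Agent.CohtopB Groth.Agent.Topos.H565.FinSum Groth.Agent.Topos.H565.ExtDecomp

variable {C : Type u} [SmallCategory C] {J : GrothendieckTopology C}

section DegreeZero

variable {Λ : Type u} [SmallCategory Λ] [IsFiltered Λ] {F : Λ ⥤ Sheaf J AddCommGrpCat.{u}} {c : Cocone F}

theorem map_inj' (hc : LocElem c) {K : Sheaf J (Type u)} (hK : CohCx.IsQcObject K) (i : Λ)
    (a b : K ⟶ (Uf J).obj (F.obj i))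
    (hab : a ≫ (Uf J).map (c.ι.app i) = b ≫ (Uf J).map (c.ι.app i)) :
    ∃ (j : Λ) (f : i ⟶ j), a ≫ (Uf J).map (F.map f) = b ≫ (Uf J).map (F.map f) :=
  map_inj hc (S := {K}) (fun K' hK' => by
    obtain rfl : K' = K := hK'
    exact hK) (Cv.of_mem rfl) i a b hab

/-- Covers whose fibre square is quasi-compact. -/
def GoodCover (K : Sheaf J (Type u)) : Prop :=
  ∀ (L : Sheaf J (Type u)) (g : L ⟶ K), Epi g →
    ∃ (K' : Sheaf J (Type u)) (k : K' ⟶ L), Epi (k ≫ g) ∧ CohCx.IsQcObject (pullback (k ≫ g) (k ≫ g))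

theorem map_surj' (hc : LocElem c) {K : Sheaf J (Type u)} (hK : CohCx.IsQcObject K) (hcov : GoodCover K)
    (s : K ⟶ (Uf J).obj c.pt) :
    ∃ (i : Λ) (t : K ⟶ (Uf J).obj (F.obj i)), t ≫ (Uf J).map (c.ι.app i) = s := by
  obtain ⟨j, hj⟩ := exists_epi_of_jointlySurjective hK
    (fun j : Λ => pullback s ((Uf J).map (c.ι.app j)))
    (fun j => pullback.fst s ((Uf J).map (c.ι.app j)))
    (by
      intro i j f
      refine ⟨pullback.lift (pullback.fst _ _) (pullback.snd _ _ ≫ (Uf J).map (F.map f)) ?_, ?_⟩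
      · rw [pullback.condition, Category.assoc, ← Functor.map_comp, c.w]
      · exact pullback.lift_fst _ _ _)
    (by
      intro U x
      let y : c.pt.obj.obj (op U) := s.hom.app (op U) x
      obtain ⟨T, hT, h⟩ := hc.surj U y
      refine ⟨T, hT, fun V g hg => ?_⟩
      obtain ⟨i, z, hz⟩ := h V g hg
      obtain ⟨w, hw, -⟩ := exists_pullback_elem s ((Uf J).map (c.ι.app i)) V (K.obj.map g.op x) z (by
        have n1 := ConcreteCategory.congr_hom (s.hom.naturality g.op) x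
        exact n1.trans hz.symm)
      exact ⟨i, w, hw⟩)
  obtain ⟨K', q, y, hq, hR, hqy⟩ : ∃ (K' : Sheaf J (Type u)) (q : K' ⟶ K) (y : K' ⟶ (Uf J).obj (F.obj j)),
      Epi q ∧ CohCx.IsQcObject (pullback q q) ∧ q ≫ s = y ≫ (Uf J).map (c.ι.app j) := by
    obtain ⟨K', k, hq, hR⟩ := hcov _ _ hj
    refine ⟨K', k ≫ pullback.fst s ((Uf J).map (c.ι.app j)), k ≫ pullback.snd s ((Uf J).map (c.ι.app j)),
      hq, hR, ?_⟩
    rw [Category.assoc, Category.assoc, pullback.condition]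
  obtain ⟨l, f, hf⟩ := map_inj' hc hR j (pullback.fst q q ≫ y) (pullback.snd q q ≫ y) (by
    rw [Category.assoc, Category.assoc, ← hqy, ← Category.assoc, ← Category.assoc, pullback.condition])
  have heff : EffectiveEpi q := effectiveEpi_of_epi J q
  have hdesc : ∀ {Z : Sheaf J (Type u)} (g₁ g₂ : Z ⟶ K'), g₁ ≫ q = g₂ ≫ q →
      g₁ ≫ y ≫ (Uf J).map (F.map f) = g₂ ≫ y ≫ (Uf J).map (F.map f) := by
    intro Z g₁ g₂ h
    have e1 : pullback.lift g₁ g₂ h ≫ pullback.fst q q = g₁ := pullback.lift_fst _ _ _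
    have e2 : pullback.lift g₁ g₂ h ≫ pullback.snd q q = g₂ := pullback.lift_snd _ _ _
    have e3 := congrArg (pullback.lift g₁ g₂ h ≫ ·) hf
    simp only [← Category.assoc, e1, e2] at e3
    simpa only [← Category.assoc] using e3
  refine ⟨l, EffectiveEpi.desc q (y ≫ (Uf J).map (F.map f)) hdesc, ?_⟩
  rw [← cancel_epi q, ← Category.assoc, EffectiveEpi.fac, Category.assoc, ← Functor.map_comp, c.w, hqy]

theorem extCommutes_zero {K : Sheaf J (Type u)} (hK : CohCx.IsQcObject K) (hcov : GoodCover K) :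
    ExtCommutes Λ ((ZSh J).obj K) 0 := by
  intro F c hc
  have hl := locElem_of_isColimit hc
  rw [elemColim_ext_iff]
  refine ⟨fun x => ?_, fun i y hy => ?_⟩
  · obtain ⟨φ, rfl⟩ := (Ext.mk₀_bijective _ _).2 x
    obtain ⟨i, t, ht⟩ := map_surj' hl hK hcov ((zAdj J).homEquiv _ _ φ)
    refine ⟨i, Ext.mk₀ (((zAdj J).homEquiv _ _).symm t), ?_⟩
    rw [Ext.mk₀_comp_mk₀]
    congr 1
    apply ((zAdj J).homEquiv _ _).injective
    rw [Adjunction.homEquiv_naturality_right, Equiv.apply_symm_apply, ht]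
    rfl
  · obtain ⟨φ, rfl⟩ := (Ext.mk₀_bijective _ _).2 y
    rw [Ext.mk₀_comp_mk₀, Ext.mk₀_eq_zero_iff] at hy
    obtain ⟨j, f, hf⟩ := map_inj' hl hK i ((zAdj J).homEquiv _ _ φ) ((zAdj J).homEquiv _ _ 0) (by
      have h1 := (zAdj J).homEquiv_naturality_right φ (c.ι.app i)
      have h2 := (zAdj J).homEquiv_naturality_right (0 : (ZSh J).obj K ⟶ F.obj i) (c.ι.app i)
      rw [zero_comp] at h2
      rw [hy] at h1
      exact h1.symm.trans h2)
    refine ⟨j, f, ?_⟩
    rw [Ext.mk₀_comp_mk₀, Ext.mk₀_eq_zero_iff]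
    have h1 := (zAdj J).homEquiv_naturality_right φ (F.map f)
    have h2 := (zAdj J).homEquiv_naturality_right (0 : (ZSh J).obj K ⟶ F.obj i) (F.map f)
    apply ((zAdj J).homEquiv _ _).injective
    rw [zero_comp] at h2
    rw [h1, hf, ← h2]

end DegreeZero

section Resn

/-- The Cech nerve resolution of `ℤ[K]` attached to an epimorphism `f : K' ⟶ K`. -/
noncomputable def nerveResn (𝒯 : Sheaf J (Type u) → Prop) (f : Arrow (Sheaf J (Type u))) [Epi f.hom]
    (hf : ∀ n, 𝒯 (f.cechNerve.obj (op ⦋n⦌))) :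
    Resn (fun G => ∃ X, 𝒯 X ∧ G = (ZSh J).obj X) ((ZSh J).obj f.right) where
  P n := (ZSh J).obj (f.cechNerve.obj (op ⦋n⦌))
  d n := ((AlgebraicTopology.alternatingFaceMapComplex (Sheaf J AddCommGrpCat.{u})).obj
      (f.cechNerve ⋙ ZSh J)).d (n + 1) n
  ε := (ZSh J).map (nBase f 0)
  mem n := ⟨_, hf n, rfl⟩
  epi_ε := epi_map_base f (ZSh J)
  zero₀ := d_comp_base f (ZSh J)
  zero n := HomologicalComplex.d_comp_d _ _ _ _
  exact₀ := by
    have : EffectiveEpi f.hom := effectiveEpi_of_epi J f.hom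
    have : Epi ((ZSh J).map (nBase f 0)) := epi_map_base f (ZSh J)
    refine ShortComplex.exact_of_g_is_cokernel _ (CokernelCofork.IsColimit.ofπ' _ _ (fun {A} x hx => ?_))
    have h := exists_desc_d f (ZSh J) (F := A) x hx
    exact ⟨h.choose, h.choose_spec⟩
  exact n := (HomologicalComplex.exactAt_iff' _ (n + 2) (n + 1) n (by simp) (by simp)).1
    (exactAt_ZSh J f n)

end Resn

/-- A finite coproduct of sheaves of sets gives a decomposition of free abelian sheaves. -/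
theorem exists_decomp {T : Set (Sh J)} {X : Sh J} (h : FSum T X) :
    ∃ (ι : Type) (_ : Fintype ι) (G : ι → Sh J), (∀ i, G i ∈ T) ∧
      Nonempty (Decomp ((ZSh J).obj X) (fun i => (ZSh J).obj (G i))) := by
  obtain ⟨ι, hι, F, π, hF, ⟨hc⟩⟩ := h
  have := Fintype.ofFinite ι
  exact ⟨ι, this, F, hF, ⟨Decomp.ofIsColimit (fun k => (ZSh J).map (π k))
    (isColimitCofanMkObjOfIsColimit (ZSh J) F π hc)⟩⟩

/-- **Main theorem**: `Ext^q(ℤ[K], -)` commutes with small filtered colimits for `K` in a pullback-closed class of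
quasi-compact objects with finite covers. -/
theorem _root_.Groth.Agent.Topos.H565.FinSum.PBClass.extCommutes {T : Set (Sh J)} (hT : PBClass T)
    (Λ : Type u) [SmallCategory Λ] [IsFiltered Λ] {K : Sh J} (hK : K ∈ T) (q : ℕ) :
    ExtCommutes Λ ((ZSh J).obj K) q := by
  have hcov : ∀ K ∈ T, GoodCover K := by
    intro K hK L g hg
    obtain ⟨X, p, hX, hp⟩ := hT.exists_fsum hK g
    refine ⟨X, p, hp, ?_⟩
    rw [isQcObject_iff_isQC]
    exact (FSum.isPullback hT hK hX hX (IsPullback.of_hasPullback _ _)).isQC hT.qc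
  have h0 : ∀ K ∈ T, ExtCommutes Λ ((ZSh J).obj K) 0 := fun K hK =>
    extCommutes_zero ((isQcObject_iff_isQC K).2 (hT.qc K hK)) (hcov K hK)
  refine extCommutes_of_resn (𝓑 := fun G => ∃ X, X ∈ T ∧ G = (ZSh J).obj X)
    (𝒯 := fun G => ∃ X, FSum T X ∧ G = (ZSh J).obj X) ?_ ?_ ?_ ?_ _ ⟨K, hK, rfl⟩ q
  · rintro _ ⟨X, hX, rfl⟩
    exact h0 X hX
  · rintro _ ⟨X, hX, rfl⟩
    obtain ⟨ι, _, G, hG, ⟨D⟩⟩ := exists_decomp hX
    exact D.extCommutes (fun k => h0 _ (hG k))
  · rintro _ ⟨X, hX, rfl⟩ Y q h x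
    obtain ⟨ι, _, G, hG, ⟨D⟩⟩ := exists_decomp hX
    exact D.ext_eq_zero (fun k => h _ ⟨_, hG k, rfl⟩) x
  · rintro _ ⟨X, hX, rfl⟩ M π hπ
    obtain ⟨L, g, hg, a, ha⟩ := EpiSheaf.exists_cover_lift J π (𝟙 ((ZSh J).obj X))
    obtain ⟨X', p, hX', hp⟩ := hT.exists_fsum hX g
    have : Epi (Arrow.mk (p ≫ g)).hom := hp
    have key : ((ZSh J).map (nProj (Arrow.mk (p ≫ g)) 0 0) ≫ (ZSh J).map p ≫ a) ≫ π =
        (ZSh J).map (nBase (Arrow.mk (p ≫ g)) 0) := by
      have e := nProj_f (Arrow.mk (p ≫ g)) 0 0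
      change nProj (Arrow.mk (p ≫ g)) 0 0 ≫ p ≫ g = _ at e
      rw [← e, Category.assoc, Category.assoc, ha, Category.comp_id, Functor.map_comp, Functor.map_comp]
    exact ⟨nerveResn (FSum T) (Arrow.mk (p ≫ g)) (fun n => FSum.cechNerve hT _ hX' hX n),
      (ZSh J).map (nProj (Arrow.mk (p ≫ g)) 0 0) ≫ (ZSh J).map p ≫ a, key⟩

/-- `F ↦ H^q(K, F)` commutes with small filtered colimits. -/
theorem _root_.Groth.Agent.Topos.H565.FinSum.PBClass.preserves_HKFunctor {T : Set (Sh J)} (hT : PBClass T)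
    (Λ : Type u) [SmallCategory Λ] [IsFiltered Λ] {K : Sh J} (hK : K ∈ T) (q : ℕ) :
    PreservesColimitsOfShape Λ (ToposFin.HKFunctor K q) :=
  (hT.extCommutes Λ hK q).preserves

end Groth.Agent.Topos.H565.CohCore
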