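import Groth.Agent.Sga4A.FinBase
import Groth.Agent.CohtopB.CohColim
import Mathlib.CategoryTheory.Extensive

/-!
# Finite coproducts of members of a pullback-closed class of quasi-compact objects of a topos

* `FSum T X`: `X` is a finite coproduct of members of `T`.
* `PBClass T`: members of `T` are quasi-compact, `T` is closed under fibre products and epimorphisms onto
  members of `T` are refined by finite jointly epimorphic families from `T`.
* `FSum.isPullback`: fibre products of `FSum T` objects over members of `T` are `FSum T`.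
* `FSum.cechNerve`: terms of the Cech nerve of `X ⟶ K` with `FSum T X` and `K ∈ T` are `FSum T`.
-/

set_option autoImplicit false

universe u

open CategoryTheory CategoryTheory.Limits Opposite Simplicial

namespace Groth.Agent.Topos.H565.FinSum

open ToposFin Groth.Agent.Sga4A.FinBase Groth.Agent.CohtopB.NerveHK

variable {C : Type u} [SmallCategory C] {J : GrothendieckTopology C}

theorem jointlySurjective_iff_locSurj {K : Sh J} {I : Type u} {L : I → Sh J} (f : ∀ i, L i ⟶ K) :
    CohCx.JointlySurjective f ↔ LocSurj f := by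
  constructor
  · intro h U x
    obtain ⟨S, hS, h'⟩ := h U x
    exact J.superset_covering (fun V g hg => h' V g hg) hS
  · intro h U x
    exact ⟨_, h U x, fun V g hg => hg⟩

theorem isQcObject_iff_isQC (K : Sh J) : CohCx.IsQcObject K ↔ IsQC K := by
  rw [isQC_iff]
  refine forall_congr' fun I => forall_congr' fun L => forall_congr' fun f => ?_
  rw [jointlySurjective_iff_locSurj]
  refine imp_congr_right fun _ => exists_congr fun t => ?_
  exact jointlySurjective_iff_locSurj _

theorem hasFinShape {ι : Type} [Finite ι] : HasColimitsOfShape (Discrete ι) (Sh J) :=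
  have : HasFiniteCoproducts (Sh J) := FinitaryExtensive.hasFiniteCoproducts
  hasColimitsOfShape_discrete _ _

attribute [local instance 10000] hasFinShape

/-- `X` is a finite coproduct of members of `T`. -/
def FSum (T : Set (Sh J)) (X : Sh J) : Prop :=
  ∃ (ι : Type) (_ : Finite ι) (F : ι → Sh J) (π : ∀ i, F i ⟶ X), (∀ i, F i ∈ T) ∧
    Nonempty (IsColimit (Cofan.mk X π))

/-- A class of quasi-compact objects closed under fibre products, with finite covers. -/
structure PBClass (T : Set (Sh J)) : Prop where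
  qc : ∀ K ∈ T, IsQC K
  pb : ∀ ⦃K L M : Sh J⦄ (f : K ⟶ M) (g : L ⟶ M), K ∈ T → L ∈ T → M ∈ T →
    ∃ (P : Sh J) (p : P ⟶ K) (q : P ⟶ L), P ∈ T ∧ IsPullback p q f g
  cov : ∀ K ∈ T, ∀ (L : Sh J) (g : L ⟶ K), Epi g → ∃ (ι : Type) (_ : Finite ι) (X : ι → Sh J)
    (p : ∀ i, X i ⟶ L), (∀ i, X i ∈ T) ∧ LocSurj (fun i => p i ≫ g)

variable {T : Set (Sh J)}

theorem FSum.of_mem {X : Sh J} (h : X ∈ T) : FSum T X := by
  refine ⟨Unit, inferInstance, fun _ => X, fun _ => 𝟙 X, fun _ => h, ⟨?_⟩⟩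
  exact Cofan.IsColimit.mk _ (fun s => s.inj ()) (fun s j => by cases j; simp)
    (fun s m hm => by simpa using hm ())

theorem FSum.of_iso {X Y : Sh J} (h : FSum T X) (e : X ≅ Y) : FSum T Y := by
  obtain ⟨ι, hι, F, π, hF, ⟨hc⟩⟩ := h
  refine ⟨ι, hι, F, fun i => π i ≫ e.hom, hF, ⟨hc.ofIsoColimit (Cofan.ext e (fun i => ?_))⟩⟩
  simp [Cofan.inj]

theorem FSum.sigma {ι : Type} [Finite ι] (F : ι → Sh J) (hF : ∀ i, F i ∈ T) : FSum T (∐ F) :=
  ⟨ι, inferInstance, F, Sigma.ι F, hF, ⟨coproductIsCoproduct F⟩⟩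

theorem FSum.isQC (hT : ∀ K ∈ T, IsQC K) {X : Sh J} (h : FSum T X) : IsQC X := by
  obtain ⟨ι, hι, F, π, hF, ⟨hc⟩⟩ := h
  exact isQC_of_finite π (locSurj_cofan_inj hc) (fun k => hT _ (hF k))

theorem FSum.isPullback (hT : PBClass T) {K : Sh J} (hK : K ∈ T) {P X Y : Sh J} (hX : FSum T X)
    (hY : FSum T Y) {fst : P ⟶ X} {snd : P ⟶ Y} {f : X ⟶ K} {g : Y ⟶ K}
    (h : IsPullback fst snd f g) : FSum T P := by
  obtain ⟨ι, hι, F, π, hF, ⟨hc⟩⟩ := hX
  obtain ⟨κ, hκ, G, ρ, hG, ⟨hd⟩⟩ := hY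
  have hau := FinitaryPreExtensive.isUniversal_finiteCoproducts hc
  have hbu := FinitaryPreExtensive.isUniversal_finiteCoproducts hd
  choose Q q₁ q₂ hQ hq using fun (p : ι × κ) => hT.pb (π p.1 ≫ f) (ρ p.2 ≫ g) (hF _) (hG _) hK
  let d : Cofan Q := Cofan.mk P fun p => h.lift (q₁ p ≫ π p.1) (q₂ p ≫ ρ p.2)
    (by simpa using (hq p).w)
  have hd : Nonempty (IsColimit d) :=
    hau.nonempty_isColimit_prod_of_isPullback (a := Cofan.mk X π) (b := Cofan.mk Y ρ) hbu
      (fun i => π i ≫ f) (fun j => ρ j ≫ g) f g (q₁ := fun i j => q₁ (i, j))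
      (q₂ := fun i j => q₂ (i, j)) (fun i j => hq (i, j)) h (d := d) (Iso.refl _)
      (fun i => rfl) (fun i => rfl) (fun i j => by simp [d, Cofan.inj]) (fun i j => by simp [d, Cofan.inj])
  exact ⟨ι × κ, inferInstance, Q, _, hQ, hd⟩

/-- Terms of the Cech nerve. -/
theorem FSum.cechNerve (hT : PBClass T) (f : Arrow (Sh J)) (hl : FSum T f.left) (hr : f.right ∈ T)
    (n : ℕ) : FSum T (f.cechNerve.obj (op ⦋n⦌)) := by
  induction n with
  | zero => exact hl.of_iso ⟨nInv f, nProj f 0 0, nInv_proj f, proj_nInv f⟩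
  | succ n ih =>
    exact FSum.isPullback hT hr ih hl (Groth.Agent.CohtopB.CohObj.isPullback_nerve_succ f n)

/-- Every epimorphism onto a member of `T` is refined by a finite coproduct of members of `T`. -/
theorem PBClass.exists_fsum (hT : PBClass T) {K : Sh J} (hK : K ∈ T) {L : Sh J} (g : L ⟶ K) [Epi g] :
    ∃ (X : Sh J) (p : X ⟶ L), FSum T X ∧ Epi (p ≫ g) := by
  obtain ⟨ι, hι, X, p, hX, hp⟩ := hT.cov K hK L g inferInstance
  refine ⟨∐ X, Sigma.desc p, FSum.sigma X hX, ?_⟩
  have e : Sigma.desc p ≫ g = Sigma.desc (fun i => p i ≫ g) := by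
    refine Sigma.hom_ext _ _ fun i => ?_
    simp
  rw [e, epi_desc_iff_locSurj]
  exact hp

end Groth.Agent.Topos.H565.FinSum
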